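import Cfsg.Agent.Lib.Helper19.MOD.Defs

/-!
# MOD, rows A1, A2, A3, A2', A3': symmetry, additivity and inverses of the root elements
-/

set_option autoImplicit false

namespace Cfsg.Agent.Lib.Helper19.MOD

open Matrix Cfsg.Agent.Lib.helper15.SUn Cfsg.Agent.Lib.helper3.STC Cfsg.Agent.Lib.Helper27.STU
  Cfsg.Agent.Lib.helper15.St2

variable {F : Type*} [Field F] [StarRing F] {n q m : ℕ} {od : Prop} (C : Ctx F n q m od)

/-- A1 [S] -/
theorem mod_sym (a b : Fin m ⊕ Fin m) (hab : a ≠ b) (hab' : a ≠ ng b) (t : F) :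
    C.xsE a b t = C.xsE (ng b) (ng a) (-(star t)) := by
  apply su_ext
  rw [C.coe_xsE hab, C.coe_xsE (fun h => hab (ng_inj.1 h).symm)]
  unfold Ctx.xsM Sg
  rw [ng_ng, C.hs, map_neg, C.σσ]
  module

/-- A2 [S]  (`Sg_mul`) -/
theorem mod_adds (a b : Fin m ⊕ Fin m) (hab : a ≠ b) (hab' : a ≠ ng b) (t u : F) :
    C.xsE a b t * C.xsE a b u = C.xsE a b (t + u) := by
  apply su_ext
  rw [su_coe_mul, C.coe_xsE hab, C.coe_xsE hab, C.coe_xsE hab]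
  exact Sg_mul C.hσ C.hf (C.gram_self a) (C.gram_self _) (C.gram0 _ _ (fun h => hab (ng_inj.1 h).symm)) t u

/-- A3 [S]  (`Eh_mul`, `gram_vd`) -/
theorem mod_addl (a : Fin m ⊕ Fin m) (ξ η : Lam F od) : C.xlE a ξ * C.xlE a η = C.xlE a (ξ * η) := by
  apply su_ext
  rw [su_coe_mul, C.coe_xlE, C.coe_xlE, C.coe_xlE]
  unfold Ctx.xlM
  rw [Eh_mul C.hσ C.hf (C.gram_self a) (C.gram_wd a _) (C.gram_wd a _), C.gram_vd, Lam.mul_v, Lam.mul_c, map_add, add_smul,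
    C.hs, mul_comm (C.σ η.v)]

theorem xsE_zero (a b : Fin m ⊕ Fin m) : C.xsE a b 0 = 1 := by
  by_cases hab : a = b
  · unfold Ctx.xsE
    rw [dif_neg (not_not.2 hab)]
  · apply su_ext
    rw [C.coe_xsE hab, su_coe_one]
    exact Sg_zero _ _

theorem xlE_one (a : Fin m ⊕ Fin m) : C.xlE a 1 = 1 := by
  apply su_ext
  rw [C.coe_xlE, su_coe_one]
  unfold Ctx.xlM
  rw [Lam.one_v, Lam.one_c, map_zero, zero_smul]
  exact Eh_zero _

/-- A2'  [S] (from A2) -/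
theorem xsE_inv (a b : Fin m ⊕ Fin m) (hab : a ≠ b) (hab' : a ≠ ng b) (t : F) :
    (C.xsE a b t)⁻¹ = C.xsE a b (-t) := by
  rw [inv_eq_iff_mul_eq_one, mod_adds C a b hab hab', add_neg_cancel, xsE_zero]

/-- A3'  [S] (from A3) -/
theorem xlE_inv (a : Fin m ⊕ Fin m) (ξ : Lam F od) : (C.xlE a ξ)⁻¹ = C.xlE a ξ⁻¹ := by
  rw [inv_eq_iff_mul_eq_one, mod_addl, mul_inv_cancel, xlE_one]

end Cfsg.Agent.Lib.Helper19.MOD
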