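import Mathlib
import Cfsg.Agent.Lib.Helper27.STU.Defs
import Cfsg.Agent.Lib.Helper27.STU.Frob
import Cfsg.Agent.Lib.helper15.SUn.Iso
import Cfsg.Agent.Lib.helper2.SUnP2

/-!
# MOD: the model of the abstract Steinberg systems of unitary type in `SU_n(q)` (definitions)

Block MOD of project PSU (S2291, architect helper27), designer helper19.  Target: `Cfsg.Agent.Lib.Helper27.STU.mod_main` (`STU/Skel0.lean.txt`).

A context `C : Ctx F n q m od` packs: the Frobenius involution `σ` (`σ x = x ^ q`, `star x = σ x`), the FROZEN hermitian form `Cfsg.hermForm n F q` is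
`σ`-unitary, and a hyperbolic frame `fr : Fin m ⊕ Fin m → (Fin n → F)`, `dv` (`dv = 0` if `od` is false) which spans.
Root elements, on helper15's calculus `Cfsg.Agent.Lib.helper15.SUn` (`R`, `Sg`, `Eh`, `TV`):
* `C.xsM a b t = Sg σ (fr a) (fr (ng b)) t`  (short root element, `b ≠ ± a`),
* `C.xlM a ξ = Eh σ (fr a) (σ ξ.v • dv) ξ.c`  (long / half root element, `ξ : Lam F od`),
and their versions `C.xsE`, `C.xlE` in `↥(Cfsg.SU n F q)`.
-/

set_option autoImplicit false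

namespace Cfsg.Agent.Lib.Helper19.MOD

open Matrix Cfsg.Agent.Lib.helper15.SUn Cfsg.Agent.Lib.helper3.STC Cfsg.Agent.Lib.Helper27.STU
  Cfsg.Agent.Lib.helper15.St2

/-- the data of the model -/
structure Ctx (F : Type*) [Field F] [StarRing F] (n q m : ℕ) (od : Prop) where
  σ : F ≃+* F
  hσ : ∀ x, σ x = x ^ q
  hs : ∀ x : F, star x = σ x
  hf : Cfsg.Geo.IsUnitaryForm σ (Cfsg.hermForm n F q)
  fr : Fin m ⊕ Fin m → Fin n → F
  dv : Fin n → F
  gram1 : ∀ a, Cfsg.hermForm n F q (fr a) (fr (ng a)) = 1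
  gram0 : ∀ a b, b ≠ ng a → Cfsg.hermForm n F q (fr a) (fr b) = 0
  gram_d : ∀ a, Cfsg.hermForm n F q dv (fr a) = 0
  gram_dd : od → Cfsg.hermForm n F q dv dv = 1
  dv0 : ¬ od → dv = 0
  span : ∀ x : Fin n → F,
    x = ∑ a, Cfsg.hermForm n F q x (fr (ng a)) • fr a + Cfsg.hermForm n F q x dv • dv

section signed

variable {ι : Type*}

@[simp] theorem ng_ng (a : ι ⊕ ι) : ng (ng a) = a := by cases a <;> rfl

theorem ng_ne (a : ι ⊕ ι) : ng a ≠ a := by cases a <;> simp [ng]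

theorem ne_ng (a : ι ⊕ ι) : a ≠ ng a := fun h => ng_ne a h.symm

theorem ng_inj {a b : ι ⊕ ι} : ng a = ng b ↔ a = b :=
  ⟨fun h => by rw [← ng_ng a, h, ng_ng], fun h => by rw [h]⟩

theorem ng_eq_iff {a b : ι ⊕ ι} : ng a = b ↔ a = ng b :=
  ⟨fun h => by rw [← h, ng_ng], fun h => by rw [h, ng_ng]⟩

theorem eq_ng_iff {a b : ι ⊕ ι} : a = ng b ↔ b = ng a :=
  ⟨fun h => by rw [h, ng_ng], fun h => by rw [h, ng_ng]⟩

theorem ne_ng_symm {a b : ι ⊕ ι} (h : a ≠ ng b) : b ≠ ng a := fun h' => h (eq_ng_iff.1 h')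

end signed

namespace Ctx

variable {F : Type*} [Field F] [StarRing F] {n q m : ℕ} {od : Prop} (C : Ctx F n q m od)

theorem σσ (x : F) : C.σ (C.σ x) = x := C.hf.involutive x

/-- the Gram matrix of the frame -/
theorem gram (a b : Fin m ⊕ Fin m) :
    Cfsg.hermForm n F q (C.fr a) (C.fr b) = if b = ng a then 1 else 0 := by
  by_cases h : b = ng a
  · rw [if_pos h, h, C.gram1]
  · rw [if_neg h, C.gram0 a b h]

theorem gram_self (a : Fin m ⊕ Fin m) : Cfsg.hermForm n F q (C.fr a) (C.fr a) = 0 :=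
  C.gram0 a a (ne_ng a)

theorem gram_fd (a : Fin m ⊕ Fin m) : Cfsg.hermForm n F q (C.fr a) C.dv = 0 := by
  rw [C.hf.herm, C.gram_d, map_zero]

/-- `B (v • dv) (w • dv) = v * σ w` in the odd case, and both sides vanish in the even case if `v = 0` -/
theorem gram_vd (ξ η : Lam F od) :
    Cfsg.hermForm n F q (C.σ ξ.v • C.dv) (C.σ η.v • C.dv) = C.σ ξ.v * η.v := by
  by_cases h : od
  · rw [herm_smul_left, herm_smul_right C.hσ, C.gram_dd h, C.σσ, mul_one]
  · rw [ξ.hv h, map_zero, zero_smul, herm_zero_left, zero_mul]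

theorem lam_h (ξ : Lam F od) :
    ξ.c + C.σ ξ.c + Cfsg.hermForm n F q (C.σ ξ.v • C.dv) (C.σ ξ.v • C.dv) = 0 := by
  rw [C.gram_vd, ← C.hs, ← C.hs]
  have := ξ.h
  linear_combination this

theorem gram_wd (a : Fin m ⊕ Fin m) (v : F) :
    Cfsg.hermForm n F q (v • C.dv) (C.fr a) = 0 := by
  rw [herm_smul_left, C.gram_d, mul_zero]

/-- the matrix of the short root element -/
def xsM (a b : Fin m ⊕ Fin m) (t : F) : Matrix (Fin n) (Fin n) F :=
  Sg C.σ (C.fr a) (C.fr (ng b)) t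

/-- the matrix of the long / half root element -/
def xlM (a : Fin m ⊕ Fin m) (ξ : Lam F od) : Matrix (Fin n) (Fin n) F :=
  Eh C.σ (C.fr a) (C.σ ξ.v • C.dv) ξ.c

theorem xsM_det {a b : Fin m ⊕ Fin m} (hab : a ≠ b) (t : F) : (C.xsM a b t).det = 1 :=
  Sg_det C.hσ C.hf (C.gram_self a) (C.gram_self _) (C.gram0 _ _ (fun h => hab (ng_inj.1 h).symm)) t

theorem xsM_iso {a b : Fin m ⊕ Fin m} (hab : a ≠ b) (t : F) (x y : Fin n → F) :
    Cfsg.hermForm n F q (C.xsM a b t *ᵥ x) (C.xsM a b t *ᵥ y) = Cfsg.hermForm n F q x y :=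
  Sg_iso C.hσ C.hf (C.gram_self a) (C.gram_self _) (C.gram0 _ _ (fun h => hab (ng_inj.1 h).symm)) t x y

theorem xlM_det (a : Fin m ⊕ Fin m) (ξ : Lam F od) : (C.xlM a ξ).det = 1 :=
  Eh_det C.hσ C.hf (C.gram_self a) (C.gram_wd a _) ξ.c

theorem xlM_iso (a : Fin m ⊕ Fin m) (ξ : Lam F od) (x y : Fin n → F) :
    Cfsg.hermForm n F q (C.xlM a ξ *ᵥ x) (C.xlM a ξ *ᵥ y) = Cfsg.hermForm n F q x y :=
  Eh_iso C.hσ C.hf (C.gram_self a) (C.gram_wd a _) (C.lam_h ξ) x y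

/-- the short root element of `SU_n(q)` (junk value `1` unless `b ≠ ± a`) -/
def xsE (a b : Fin m ⊕ Fin m) (t : F) : ↥(Cfsg.SU n F q) :=
  if h : a ≠ b then mkSU (C.xsM a b t) (C.xsM_det h t) (C.xsM_iso h t) else 1

/-- the long / half root element of `SU_n(q)` -/
def xlE (a : Fin m ⊕ Fin m) (ξ : Lam F od) : ↥(Cfsg.SU n F q) :=
  mkSU (C.xlM a ξ) (C.xlM_det a ξ) (C.xlM_iso a ξ)

theorem coe_xsE {a b : Fin m ⊕ Fin m} (hab : a ≠ b) (t : F) :
    ((C.xsE a b t : Matrix.SpecialLinearGroup (Fin n) F) : Matrix (Fin n) (Fin n) F) = C.xsM a b t := by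
  unfold xsE
  rw [dif_pos hab]
  rfl

theorem coe_xlE (a : Fin m ⊕ Fin m) (ξ : Lam F od) :
    ((C.xlE a ξ : Matrix.SpecialLinearGroup (Fin n) F) : Matrix (Fin n) (Fin n) F) = C.xlM a ξ := rfl

/-- the action of the short root element -/
theorem xsM_mulVec (a b : Fin m ⊕ Fin m) (t : F) (x : Fin n → F) :
    C.xsM a b t *ᵥ x = x + (t * Cfsg.hermForm n F q x (C.fr (ng b))) • C.fr a -
      (C.σ t * Cfsg.hermForm n F q x (C.fr a)) • C.fr (ng b) :=
  Sg_mulVec C.hσ _ _ t x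

/-- the action of the long / half root element -/
theorem xlM_mulVec (a : Fin m ⊕ Fin m) (ξ : Lam F od) (x : Fin n → F) :
    C.xlM a ξ *ᵥ x = x + (ξ.v * Cfsg.hermForm n F q x C.dv + ξ.c * Cfsg.hermForm n F q x (C.fr a)) • C.fr a -
      (C.σ ξ.v * Cfsg.hermForm n F q x (C.fr a)) • C.dv := by
  unfold xlM
  rw [Eh_mulVec C.hσ, herm_smul_right C.hσ, C.σσ]
  module

/-- coordinates -/
def co (x : Fin n → F) (a : Fin m ⊕ Fin m) : F := Cfsg.hermForm n F q x (C.fr (ng a))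

/-- the middle coordinate -/
def cd (x : Fin n → F) : F := Cfsg.hermForm n F q x C.dv

/-- the `3 × 3` frame attached to `a`, and its dual -/
def b3 (a : Fin m ⊕ Fin m) : Fin 3 → Fin n → F := ![C.fr a, C.dv, C.fr (ng a)]

/-- the dual of `b3` -/
def b3s (a : Fin m ⊕ Fin m) : Fin 3 → Fin n → F := ![C.fr (ng a), C.dv, C.fr a]

/-- the embedding of the `3 × 3` matrices on `fr a, dv, fr (ng a)` -/
def emb (a : Fin m ⊕ Fin m) (M : Matrix (Fin 3) (Fin 3) F) : Matrix (Fin n) (Fin n) F :=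
  1 + ∑ i : Fin 3, ∑ j : Fin 3, (M - 1) i j • R C.σ (C.b3 a i) (C.b3s a j)

end Ctx

/-- a criterion for commutator identities in `SU_n(q)` -/
theorem su_comm_eq {F : Type*} [Field F] {n q : ℕ} {A B D : ↥(Cfsg.SU n F q)}
    (h : ((A : Matrix.SpecialLinearGroup (Fin n) F) : Matrix (Fin n) (Fin n) F) *
        ((B : Matrix.SpecialLinearGroup (Fin n) F) : Matrix (Fin n) (Fin n) F) =
      ((D : Matrix.SpecialLinearGroup (Fin n) F) : Matrix (Fin n) (Fin n) F) *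
        ((B : Matrix.SpecialLinearGroup (Fin n) F) : Matrix (Fin n) (Fin n) F) *
        ((A : Matrix.SpecialLinearGroup (Fin n) F) : Matrix (Fin n) (Fin n) F)) :
    A * B * A⁻¹ * B⁻¹ = D := by
  have h1 : A * B = D * B * A := su_ext (by rw [su_coe_mul, su_coe_mul, su_coe_mul]; exact h)
  rw [h1]
  group

end Cfsg.Agent.Lib.Helper19.MOD
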